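import Groth.Prelude.Def_W4c6modpairsegaMP
import Groth.Agent.ProjLib.IdealComap
import Groth.Agent.ProjLib.BlowUpBasics
import Mathlib.AlgebraicGeometry.Morphisms.SchemeTheoreticallyDominant
import Mathlib.AlgebraicGeometry.Morphisms.Affine
import Mathlib.AlgebraicGeometry.Morphisms.Separated
import Mathlib.RingTheory.Flat.TorsionFree
import Mathlib.RingTheory.Localization.Finiteness

/-!
# Effective Cartier ideals and scheme-theoretically dense opens

The interior of an effective Cartier ideal is scheme-theoretically dense, and the pull back of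
such an ideal is effective Cartier iff the preimage of the interior is scheme-theoretically dense.
-/

set_option autoImplicit false
set_option backward.isDefEq.respectTransparency.types false

universe u

open CategoryTheory Limits AlgebraicGeometry TopologicalSpace

namespace Groth.Agent.ModPairLib

variable {X Y : Scheme.{u}}

/-- Restriction of sections. -/
noncomputable abbrev res {U V : X.Opens} (h : V ≤ U) : Γ(X, U) →+* Γ(X, V) :=
  (X.presheaf.map (homOfLE h).op).hom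

theorem res_res {U V W : X.Opens} (h : V ≤ U) (h' : W ≤ V) (s : Γ(X, U)) :
    res h' (res h s) = res (h'.trans h) s :=
  (ConcreteCategory.congr_hom (X.presheaf.map_comp (homOfLE h).op (homOfLE h').op) s).symm

theorem ideal_restrict (I : X.IdealSheafData) {U V : X.affineOpens} (h : V.1 ≤ U.1) {f : Γ(X, U.1)}
    (hI : I.ideal U = Ideal.span {f}) : I.ideal V = Ideal.span {res h f} := by
  rw [← I.map_ideal (U := V) (V := U) h, hI, Ideal.map_span, Set.image_singleton]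
  rfl

theorem res_mem_nonZeroDivisors {U V : X.affineOpens} (h : V.1 ≤ U.1) {f : Γ(X, U.1)}
    (hf : f ∈ nonZeroDivisors Γ(X, U.1)) : res h f ∈ nonZeroDivisors Γ(X, V.1) := by
  have hflat : ((𝟙 X : X ⟶ X).appLE U.1 V.1 h).hom.Flat := (𝟙 X : X ⟶ X).flat_appLE U.2 V.2 h
  simp only [Scheme.Hom.appLE, Scheme.Hom.id_app, Category.id_comp] at hflat
  letI := (res h).toAlgebra
  have : Module.Flat Γ(X, U.1) Γ(X, V.1) := hflat
  rw [mem_nonZeroDivisors_iff_right]
  intro z hz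
  refine Module.Flat.isSMulRegular_of_nonZeroDivisors (M := Γ(X, V.1)) (r := f) hf ?_
  change f • z = f • 0
  rw [smul_zero, Algebra.smul_def, mul_comm]
  exact hz

theorem exists_local {I : X.IdealSheafData} (hI : BlowUp.IsEffCartierIdeal I) (x : X) (W : X.Opens)
    (hx : x ∈ W) : ∃ U : X.affineOpens, x ∈ U.1 ∧ U.1 ≤ W ∧
      ∃ f ∈ nonZeroDivisors Γ(X, U.1), I.ideal U = Ideal.span {f} := by
  obtain ⟨U, hxU, f, hf, hfI⟩ := hI x
  obtain ⟨g, hg, hxg⟩ := U.2.exists_basicOpen_le ⟨x, hx⟩ hxU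
  exact ⟨X.affineBasicOpen g, hxg, hg, _, res_mem_nonZeroDivisors (V := X.affineBasicOpen g)
    (X.basicOpen_le g) hf, ideal_restrict I (X.basicOpen_le g) hfI⟩

theorem le_of_local {I J : X.IdealSheafData}
    (h : ∀ x : X, ∃ U : X.affineOpens, x ∈ U.1 ∧ I.ideal U ≤ J.ideal U) : I ≤ J := by
  choose U hU hle using h
  exact Scheme.IdealSheafData.le_of_iSup_eq_top U
    (top_le_iff.1 fun x _ => Opens.mem_iSup.2 ⟨x, hU x⟩) hle

theorem eq_of_local {I J : X.IdealSheafData}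
    (h : ∀ x : X, ∃ U : X.affineOpens, x ∈ U.1 ∧ I.ideal U = J.ideal U) : I = J :=
  le_antisymm (le_of_local fun x => let ⟨U, h1, h2⟩ := h x; ⟨U, h1, h2.le⟩)
    (le_of_local fun x => let ⟨U, h1, h2⟩ := h x; ⟨U, h1, h2.ge⟩)

theorem interior_anti {I J : X.IdealSheafData} (h : I ≤ J) :
    ModPair.interior I ≤ ModPair.interior J := fun _ hx hx' =>
  hx (Scheme.IdealSheafData.support_antitone h hx')

theorem interior_comap (I : Y.IdealSheafData) (f : X ⟶ Y) :
    ModPair.interior (I.comap f) = f ⁻¹ᵁ ModPair.interior I := by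
  ext x
  simp [ModPair.interior]

theorem inf_interior {I : X.IdealSheafData} {U : X.affineOpens} {f : Γ(X, U.1)}
    (hI : I.ideal U = Ideal.span {f}) : U.1 ⊓ ModPair.interior I = X.basicOpen f := by
  ext y
  constructor
  · rintro ⟨hyU, hy⟩
    by_contra hf
    exact hy ((I.mem_support_iff_of_mem hyU).2 (by
      rw [hI, Scheme.zeroLocus_span, Scheme.mem_zeroLocus_iff]
      rintro _ rfl
      exact hf))
  · refine fun hy => ⟨X.basicOpen_le f hy, fun hy' => ?_⟩
    have := (I.mem_support_iff_of_mem (X.basicOpen_le f hy)).1 hy'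
    rw [hI, Scheme.zeroLocus_span, Scheme.mem_zeroLocus_iff] at this
    exact this f rfl hy

/-- `U` is scheme-theoretically dense: a section vanishing on `U` vanishes. -/
def IsDenseOpen (U : X.Opens) : Prop :=
  ∀ (W : X.Opens) (s : Γ(X, W)), res (inf_le_left : W ⊓ U ≤ W) s = 0 → s = 0

theorem IsDenseOpen.mono {U V : X.Opens} (hU : IsDenseOpen U) (h : U ≤ V) : IsDenseOpen V :=
  fun W s hs => hU W s (by
    rw [← res_res (inf_le_left : W ⊓ V ≤ W) (inf_le_inf_left W h), hs, map_zero])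

theorem IsDenseOpen.inf {U V : X.Opens} (hU : IsDenseOpen U) (hV : IsDenseOpen V) :
    IsDenseOpen (U ⊓ V) := fun W s hs => hU W s (hV (W ⊓ U) _ (by
  rw [res_res]
  have : W ⊓ U ⊓ V ≤ W ⊓ (U ⊓ V) := (inf_assoc W U V).le
  rw [← res_res (inf_le_left : W ⊓ (U ⊓ V) ≤ W) this, hs, map_zero]))

theorem IsDenseOpen.of_local {U : X.Opens} (h : ∀ x : X, ∃ U₀ : X.Opens, x ∈ U₀ ∧
    ∀ W : X.affineOpens, W.1 ≤ U₀ → ∀ s : Γ(X, W.1),
      res (inf_le_left : W.1 ⊓ U ≤ W.1) s = 0 → s = 0) : IsDenseOpen U := by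
  intro W s hs
  refine X.IsSheaf.section_ext fun x hx => ?_
  obtain ⟨U₀, hxU₀, h₀⟩ := h x
  obtain ⟨_, ⟨V, hV, rfl⟩, hxV, hVW⟩ :=
    X.isBasis_affineOpens.exists_subset_of_mem_open (show x ∈ W ⊓ U₀ from ⟨hx, hxU₀⟩) (W ⊓ U₀).isOpen
  have h1 : V ≤ W := fun y hy => (hVW hy).1
  refine ⟨V, h1, hxV, ?_⟩
  rw [map_zero]
  refine h₀ ⟨V, hV⟩ (fun y hy => (hVW hy).2) _ ?_
  rw [res_res h1, ← res_res (inf_le_left : W ⊓ U ≤ W) (inf_le_inf_right U h1), hs, map_zero]

theorem isDenseOpen_interior {I : X.IdealSheafData} (hI : BlowUp.IsEffCartierIdeal I) :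
    IsDenseOpen (ModPair.interior I) := by
  refine .of_local fun x => ?_
  obtain ⟨U, hxU, f, hf, hfI⟩ := hI x
  refine ⟨U.1, hxU, fun W hW s hs => ?_⟩
  have hW' := inf_interior (ideal_restrict I hW hfI)
  have h0 : res (X.basicOpen_le (res hW f)) s = 0 := by
    rw [← res_res (inf_le_left : W.1 ⊓ ModPair.interior I ≤ W.1) hW'.ge, hs, map_zero]
  have := W.2.isLocalization_basicOpen (res hW f)
  obtain ⟨⟨_, n, rfl⟩, hn⟩ := (IsLocalization.map_eq_zero_iff
    (Submonoid.powers (res hW f)) Γ(X, X.basicOpen (res hW f)) s).mp h0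
  exact (pow_mem (res_mem_nonZeroDivisors hW hf) n).1 s hn

theorem isEffCartier_comap_of_dense {I : Y.IdealSheafData} (hI : BlowUp.IsEffCartierIdeal I)
    (f : X ⟶ Y) (h : IsDenseOpen (f ⁻¹ᵁ ModPair.interior I)) :
    BlowUp.IsEffCartierIdeal (I.comap f) := by
  intro x
  obtain ⟨U, hxU, g, -, hg⟩ := hI (f x)
  obtain ⟨_, ⟨V, hV, rfl⟩, hxV, hVU⟩ :=
    X.isBasis_affineOpens.exists_subset_of_mem_open (show x ∈ f ⁻¹ᵁ U.1 from hxU) (f ⁻¹ᵁ U.1).isOpen
  have hid : (I.comap f).ideal ⟨V, hV⟩ = Ideal.span {(f.appLE U.1 V hVU).hom g} := by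
    rw [ProjLib.comap_ideal_eq I f U ⟨V, hV⟩ hVU, hg, Ideal.map_span, Set.image_singleton]
  refine ⟨⟨V, hV⟩, hxV, _, ?_, hid⟩
  rw [← interior_comap] at h
  rw [mem_nonZeroDivisors_iff_right]
  intro z hz
  refine h V z ?_
  have hu : IsUnit (res (inf_le_left : V ⊓ ModPair.interior (I.comap f) ≤ V)
      ((f.appLE U.1 V hVU).hom g)) := by
    rw [← res_res (X.basicOpen_le _) (inf_interior (U := ⟨V, hV⟩) hid).le]
    exact (RingedSpace.isUnit_res_basicOpen X.toRingedSpace _).map _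
  refine hu.mul_left_eq_zero.1 ?_
  rw [← map_mul, hz, map_zero]

theorem isEffCartier_comap_iff {I : Y.IdealSheafData} (hI : BlowUp.IsEffCartierIdeal I)
    (f : X ⟶ Y) :
    BlowUp.IsEffCartierIdeal (I.comap f) ↔ IsDenseOpen (f ⁻¹ᵁ ModPair.interior I) :=
  ⟨fun h => interior_comap I f ▸ isDenseOpen_interior h, isEffCartier_comap_of_dense hI f⟩

theorem isAffineHom_interior {I : X.IdealSheafData} (hI : BlowUp.IsEffCartierIdeal I) :
    IsAffineHom (ModPair.interior I).ι := by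
  refine isAffineHom_of_forall_exists_isAffineOpen _ fun x => ?_
  obtain ⟨U, hxU, f, -, hfI⟩ := hI x
  refine ⟨U.1, hxU, U.2, ?_⟩
  have : (ModPair.interior I).ι ⁻¹ᵁ U.1 = (ModPair.interior I).ι ⁻¹ᵁ X.basicOpen f := by
    rw [← inf_interior hfI]
    ext y
    exact ⟨fun hy => ⟨hy, y.2⟩, fun hy => hy.1⟩
  rw [this]
  refine (U.2.basicOpen f).preimage_of_isOpenImmersion _ ?_
  rw [Scheme.Opens.opensRange_ι, ← inf_interior hfI]
  exact inf_le_right

theorem isAffineHom_preimage (f : X ⟶ Y) (U : Y.Opens) [IsAffineHom U.ι] :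
    IsAffineHom (f ⁻¹ᵁ U).ι :=
  MorphismProperty.of_isPullback (P := @IsAffineHom.{u}) (isPullback_morphismRestrict f U) ‹_›

theorem isAffineHom_inf (U V : X.Opens) [IsAffineHom U.ι] [IsAffineHom V.ι] :
    IsAffineHom (U ⊓ V).ι := by
  have := isAffineHom_preimage U.ι V
  let e := IsOpenImmersion.isoOfRangeEq ((U.ι ⁻¹ᵁ V).ι ≫ U.ι) (U ⊓ V).ι (by
    ext y
    simp only [Scheme.Opens.range_ι, SetLike.mem_coe]
    constructor
    · rintro ⟨⟨⟨z, hzU⟩, hzV⟩, rfl⟩; exact ⟨hzU, hzV⟩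
    · rintro ⟨hyU, hyV⟩; exact ⟨⟨⟨y, hyU⟩, hyV⟩, rfl⟩)
  have he : (U ⊓ V).ι = e.inv ≫ (U.ι ⁻¹ᵁ V).ι ≫ U.ι := by
    simp [e]
  rw [he]
  infer_instance

theorem IsDenseOpen.isSTD {U : X.Opens} (h : IsDenseOpen U) : IsSchemeTheoreticallyDominant U.ι := by
  rw [isSchemeTheoreticallyDominant_iff, ← le_bot_iff]
  intro W s hs
  have h0 := RingHom.mem_ker.1 (Scheme.Hom.ideal_ker_le _ _ hs)
  rw [Scheme.IdealSheafData.ideal_bot, Pi.bot_apply, Ideal.mem_bot]
  refine h W.1 s ?_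
  rw [Scheme.Opens.ι_app] at h0
  have hle : W.1 ⊓ U ≤ U.ι ''ᵁ U.ι ⁻¹ᵁ W.1 := by
    rw [Scheme.Hom.image_preimage_eq_opensRange_inf, Scheme.Opens.opensRange_ι, inf_comm]
  refine Eq.trans ?_ ((congrArg (res hle) h0).trans (map_zero _))
  exact (res_res _ hle s).symm

theorem IsDenseOpen.of_isSTD (U : X.Opens) [QuasiCompact U.ι] [IsSchemeTheoreticallyDominant U.ι] :
    IsDenseOpen U := by
  intro W s hs
  refine U.ι.app_injective W ?_
  rw [map_zero, Scheme.Opens.ι_app]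
  have hle : U.ι ''ᵁ U.ι ⁻¹ᵁ W ≤ W ⊓ U := by
    rw [Scheme.Hom.image_preimage_eq_opensRange_inf, Scheme.Opens.opensRange_ι, inf_comm]
  refine Eq.trans ?_ ((congrArg (res hle) hs).trans (map_zero _))
  exact (res_res _ hle s).symm

/-- Morphisms agreeing on a dense open agree, if compatible to a separated morphism. -/
theorem IsDenseOpen.hom_ext {U : X.Opens} (hU : IsDenseOpen U) {T S : Scheme.{u}} (h : T ⟶ S)
    [IsSeparated h] {a b : X ⟶ T} (w : a ≫ h = b ≫ h) (e : U.ι ≫ a = U.ι ≫ b) : a = b := by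
  let d := pullback.diagonal h
  let i := pullback.snd d (pullback.lift a b w)
  have hfac : pullback.lift (U.ι ≫ a) U.ι (pullback.hom_ext (by simp [d]; exact (congrArg (U.ι ≫ ·) (pullback.lift_fst a b w)).symm) (by simp [d, e]; exact (congrArg (U.ι ≫ ·) (pullback.lift_snd a b w)).symm)) ≫ i = U.ι :=
    pullback.lift_snd _ _ _
  have hker : i.ker = ⊥ := by
    have := hU.isSTD
    rw [← le_bot_iff, ← U.ι.ker_eq_bot]
    conv_rhs => rw [← hfac]
    exact Scheme.Hom.le_ker_comp _ i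
  have : IsIso i := IsClosedImmersion.isIso_iff_ker_eq_bot.2 hker
  rw [← cancel_epi i]
  have hc := pullback.condition (f := d) (g := pullback.lift a b w)
  have h1 := congrArg (· ≫ pullback.fst h h) hc
  have h2 := congrArg (· ≫ pullback.snd h h) hc
  simp only [d, Category.assoc, pullback.diagonal_fst, pullback.diagonal_snd, pullback.lift_fst,
    pullback.lift_snd] at h1 h2
  exact h1.symm.trans h2

theorem comap_mul (I J : Y.IdealSheafData) (f : X ⟶ Y) :
    (I * J).comap f = I.comap f * J.comap f := by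
  refine eq_of_local fun x => ?_
  obtain ⟨_, ⟨U, hU, rfl⟩, hxU, -⟩ :=
    Y.isBasis_affineOpens.exists_subset_of_mem_open (Set.mem_univ (f x)) isOpen_univ
  obtain ⟨_, ⟨V, hV, rfl⟩, hxV, hVU⟩ :=
    X.isBasis_affineOpens.exists_subset_of_mem_open (show x ∈ f ⁻¹ᵁ U from hxU) (f ⁻¹ᵁ U).isOpen
  refine ⟨⟨V, hV⟩, hxV, ?_⟩
  simp only [Scheme.IdealSheafData.ideal_mul, Pi.mul_apply,
    ProjLib.comap_ideal_eq _ f ⟨U, hU⟩ ⟨V, hV⟩ hVU, Ideal.map_mul]

theorem isEffCartier_mul {I J : X.IdealSheafData} (hI : BlowUp.IsEffCartierIdeal I)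
    (hJ : BlowUp.IsEffCartierIdeal J) : BlowUp.IsEffCartierIdeal (I * J) := by
  intro x
  obtain ⟨U, hxU, f, hf, hfI⟩ := hI x
  obtain ⟨V, hxV, hVU, g, hg, hgJ⟩ := exists_local hJ x U.1 hxU
  refine ⟨V, hxV, res hVU f * g, mul_mem (res_mem_nonZeroDivisors hVU hf) hg, ?_⟩
  rw [Scheme.IdealSheafData.ideal_mul, Pi.mul_apply, ideal_restrict I hVU hfI, hgJ,
    Ideal.span_singleton_mul_span_singleton]

theorem le_of_mul_le_mul {A B E : X.IdealSheafData} (hE : BlowUp.IsEffCartierIdeal E)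
    (h : A * E ≤ B * E) : A ≤ B := by
  refine le_of_local fun x => ?_
  obtain ⟨U, hxU, e, he, heE⟩ := hE x
  refine ⟨U, hxU, fun a ha => ?_⟩
  have h' := h U
  simp only [Scheme.IdealSheafData.ideal_mul, Pi.mul_apply, heE] at h'
  obtain ⟨b, hb, hbe⟩ := Ideal.mem_mul_span_singleton.1
    (h' (Ideal.mem_mul_span_singleton.2 ⟨a, ha, rfl⟩))
  exact (mul_cancel_right_mem_nonZeroDivisors he).1 hbe ▸ hb

theorem eq_of_mul_eq_mul {A B E : X.IdealSheafData} (hE : BlowUp.IsEffCartierIdeal E)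
    (h : A * E = B * E) : A = B :=
  le_antisymm (le_of_mul_le_mul hE h.le) (le_of_mul_le_mul hE h.ge)

theorem isEffCartier_of_mul {K E : X.IdealSheafData} (hP : BlowUp.IsEffCartierIdeal (K * E))
    (hE : BlowUp.IsEffCartierIdeal E) : BlowUp.IsEffCartierIdeal K := by
  intro x
  obtain ⟨U, hxU, e, he, heE⟩ := hE x
  obtain ⟨V, hxV, hVU, p, hp, hpP⟩ := exists_local hP x U.1 hxU
  have heV := ideal_restrict E hVU heE
  have he' := res_mem_nonZeroDivisors hVU he
  rw [Scheme.IdealSheafData.ideal_mul, Pi.mul_apply, heV] at hpP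
  obtain ⟨k, hk, hke⟩ := Ideal.mem_mul_span_singleton.1
    (hpP.ge (Ideal.mem_span_singleton_self p))
  refine ⟨V, hxV, k, (mul_mem_nonZeroDivisors.1 (hke ▸ hp)).1, le_antisymm (fun z hz => ?_) ?_⟩
  · obtain ⟨c, hc⟩ := Ideal.mem_span_singleton'.1
      (hpP.le (Ideal.mem_mul_span_singleton.2 ⟨z, hz, rfl⟩))
    rw [← hke, ← mul_assoc, mul_cancel_right_mem_nonZeroDivisors he'] at hc
    exact Ideal.mem_span_singleton'.2 ⟨c, hc⟩
  · rwa [Ideal.span_singleton_le_iff_mem]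

theorem isFiniteType_of_effCartier {E : X.IdealSheafData} (hE : BlowUp.IsEffCartierIdeal E) :
    BlowUp.IsFiniteTypeIdeal E := by
  intro V
  let t : Set Γ(X, V.1) := {g | ∃ f, E.ideal (X.affineBasicOpen g) = Ideal.span {f}}
  have ht : Ideal.span t = ⊤ := by
    rw [← V.2.self_le_iSup_basicOpen_iff]
    intro x hx
    obtain ⟨U, hxU, f, -, hf⟩ := hE x
    obtain ⟨g, hg, hxg⟩ := V.2.exists_basicOpen_le ⟨x, hxU⟩ hx
    exact Opens.mem_iSup.2 ⟨⟨g, _, ideal_restrict E (V := X.affineBasicOpen g) hg hf⟩, hxg⟩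
  refine Ideal.fg_of_localizationSpan t ht fun ⟨g, f, hf⟩ => ?_
  have := V.2.isLocalization_basicOpen g
  let e := IsLocalization.algEquiv (Submonoid.powers g) Γ(X, X.basicOpen g) (Localization.Away g)
  have h1 : (E.ideal V).map (algebraMap Γ(X, V.1) (Localization.Away g)) =
      ((E.ideal V).map (algebraMap Γ(X, V.1) Γ(X, X.basicOpen g))).map
        (e.toAlgHom : _ →+* Localization.Away g) := by
    rw [Ideal.map_map, e.toAlgHom.comp_algebraMap]
  have h2 : (E.ideal V).map (algebraMap Γ(X, V.1) Γ(X, X.basicOpen g)) = Ideal.span {f} :=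
    (E.map_ideal_basicOpen V g).trans hf
  rw [h1, h2]
  exact Ideal.FG.map (Submodule.fg_span_singleton f) _

end Groth.Agent.ModPairLib
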