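import Groth.Agent.ModPairLib.Colon
import Mathlib.AlgebraicGeometry.Morphisms.Proper

/-!
# The scheme-theoretic closure of an open, and minimal products of modulus pairs
-/

set_option autoImplicit false
set_option backward.isDefEq.respectTransparency.types false

universe u

open CategoryTheory Limits AlgebraicGeometry TopologicalSpace

namespace Groth.Agent.ModPairLib

variable {X Y Z : Scheme.{u}}

/-- The map to the scheme-theoretic image is scheme-theoretically dominant. -/
theorem ker_toImage (f : X ⟶ Y) [QuasiCompact f] : f.toImage.ker = ⊥ := by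
  let k := f.toImage.ker.subschemeι
  let l := IsClosedImmersion.lift k f.toImage (by simp [k])
  have hl : l ≫ k ≫ f.imageι = f := by simp [l]
  have h1 : (k ≫ f.imageι).ker ≤ f.ker := by
    conv_rhs => rw [← hl]
    exact Scheme.Hom.le_ker_comp l _
  have h2 : f.ker ≤ (k ≫ f.imageι).ker := by
    conv_lhs => rw [← Scheme.IdealSheafData.ker_subschemeι f.ker]
    exact Scheme.Hom.le_ker_comp k _
  have : IsIso k := IsClosedImmersion.isIso_of_ker_eq (k ≫ f.imageι) f.imageι k rfl
    ((le_antisymm h1 h2).trans (Scheme.IdealSheafData.ker_subschemeι f.ker).symm)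
  rw [← Scheme.IdealSheafData.ker_subschemeι f.toImage.ker]
  exact Scheme.Hom.ker_eq_bot_of_isIso k

theorem IsDenseOpen.of_hom (j : Z ⟶ X) [IsOpenImmersion j] [QuasiCompact j] (hj : j.ker = ⊥) :
    IsDenseOpen j.opensRange := by
  have e : j.isoOpensRange.inv ≫ j = j.opensRange.ι := by
    rw [Iso.inv_comp_eq, Scheme.Hom.isoOpensRange_hom_ι]
  have : QuasiCompact j.opensRange.ι := e ▸ inferInstance
  have : IsSchemeTheoreticallyDominant j.opensRange.ι := ⟨by
    rw [← e, Scheme.Hom.ker_comp_of_isIso, hj]⟩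
  exact .of_isSTD _

section Image

variable (U : X.Opens) (g : Z ⟶ (U : Scheme.{u})) [IsClosedImmersion g] [QuasiCompact U.ι]

theorem isPullback_image : IsPullback g (g ≫ U.ι).toImage U.ι (g ≫ U.ι).imageι := by
  refine isPullback_of_isClosedImmersion g (g ≫ U.ι).imageι (g ≫ U.ι).toImage U.ι
    (Scheme.Hom.toImage_imageι _).symm ?_
  refine Scheme.IdealSheafData.ext (funext fun W => ?_)
  have hsq : IsPullback g (𝟙 Z) U.ι (g ≫ U.ι) :=
    IsPullback.of_vert_isIso_mono ⟨by simp⟩
  rw [Scheme.IdealSheafData.ideal_comap_of_isOpenImmersion, Scheme.IdealSheafData.ker_subschemeι,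
    Scheme.ker_ideal_of_isPullback_of_isOpenImmersion (g ≫ U.ι) g (𝟙 Z) U.ι hsq]

theorem isOpenImmersion_toImage : IsOpenImmersion (g ≫ U.ι).toImage :=
  MorphismProperty.of_isPullback (P := @IsOpenImmersion) (isPullback_image U g) inferInstance

theorem range_toImage :
    Set.range (g ≫ U.ι).toImage = (g ≫ U.ι).imageι ⁻¹' (U : Set X) := by
  refine subset_antisymm ?_ fun v hv => ?_
  · rintro _ ⟨z, rfl⟩
    show (g ≫ U.ι).imageι ((g ≫ U.ι).toImage z) ∈ U
    rw [← Scheme.Hom.comp_apply, Scheme.Hom.toImage_imageι, Scheme.Hom.comp_apply]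
    exact (g z).2
  · obtain ⟨w, -, hw⟩ := Scheme.Pullback.exists_preimage_pullback (f := U.ι)
      (g := (g ≫ U.ι).imageι) (⟨_, hv⟩ : U) v rfl
    refine ⟨(isPullback_image U g).isoPullback.inv w, ?_⟩
    rw [← Scheme.Hom.comp_apply, IsPullback.isoPullback_inv_snd]
    exact hw

theorem isDenseOpen_imageι_preimage : IsDenseOpen ((g ≫ U.ι).imageι ⁻¹ᵁ U) := by
  have := isOpenImmersion_toImage U g
  have h : (g ≫ U.ι).toImage.opensRange = (g ≫ U.ι).imageι ⁻¹ᵁ U :=
    Opens.ext (range_toImage U g)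
  exact h ▸ IsDenseOpen.of_hom _ (ker_toImage _)

end Image

/-- The closure of an open `U`: dense preimage and isomorphism over `U`. -/
theorem isDenseOpen_closure (U : X.Opens) [QuasiCompact U.ι] : IsDenseOpen (U.ι.imageι ⁻¹ᵁ U) := by
  have := isDenseOpen_imageι_preimage U (𝟙 (U : Scheme.{u}))
  rwa [Category.id_comp] at this

theorem isIso_closure_restrict (U : X.Opens) [QuasiCompact U.ι] : IsIso (U.ι.imageι ∣_ U) := by
  have h := isPullback_image U (𝟙 (U : Scheme.{u}))
  rw [Category.id_comp] at h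
  have h' := (isPullback_morphismRestrict U.ι.imageι U).flip
  have := h'.isoIsPullback_hom_snd _ _ h.flip
  rw [Category.comp_id] at this
  rw [← this]
  infer_instance

section Pairs

variable {S T : Scheme.{u}} {f : X ⟶ S} {g : T ⟶ S} {I : X.IdealSheafData} {J : T.IdealSheafData}

theorem isAffineHom_prodInterior (hI : BlowUp.IsEffCartierIdeal I) (hJ : BlowUp.IsEffCartierIdeal J) :
    IsAffineHom (ModPair.prodInterior f g I J).ι := by
  have := isAffineHom_interior hI
  have := isAffineHom_interior hJ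
  have := isAffineHom_preimage (pullback.fst f g) (ModPair.interior I)
  have := isAffineHom_preimage (pullback.snd f g) (ModPair.interior J)
  exact isAffineHom_inf _ _

theorem isDenseOpen_mprod (hI : BlowUp.IsEffCartierIdeal I) (hJ : BlowUp.IsEffCartierIdeal J) :
    IsDenseOpen (ModPair.mprodι f g I J ⁻¹ᵁ ModPair.prodInterior f g I J) :=
  have := isAffineHom_prodInterior (f := f) (g := g) hI hJ
  isDenseOpen_closure _

theorem isEffCartier_comap_mprod (hI : BlowUp.IsEffCartierIdeal I) (hJ : BlowUp.IsEffCartierIdeal J)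
    {K : Y.IdealSheafData} (hK : BlowUp.IsEffCartierIdeal K) (h : pullback f g ⟶ Y)
    (hle : ModPair.prodInterior f g I J ≤ h ⁻¹ᵁ ModPair.interior K) :
    BlowUp.IsEffCartierIdeal (K.comap (ModPair.mprodι f g I J ≫ h)) :=
  isEffCartier_comap_of_dense hK _
    ((isDenseOpen_mprod hI hJ).mono (Scheme.Hom.preimage_mono _ hle))

theorem isEffCartier_comap_mprod_fst (hI : BlowUp.IsEffCartierIdeal I)
    (hJ : BlowUp.IsEffCartierIdeal J) :
    BlowUp.IsEffCartierIdeal (I.comap (ModPair.mprodι f g I J ≫ pullback.fst f g)) :=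
  isEffCartier_comap_mprod hI hJ hI _ inf_le_left

theorem isEffCartier_comap_mprod_snd (hI : BlowUp.IsEffCartierIdeal I)
    (hJ : BlowUp.IsEffCartierIdeal J) :
    BlowUp.IsEffCartierIdeal (J.comap (ModPair.mprodι f g I J ≫ pullback.snd f g)) :=
  isEffCartier_comap_mprod hI hJ hJ _ inf_le_right

/-- Morphisms from a modulus pair to the fibre product with interior in `prodInterior` factor
through `mprod`. -/
theorem exists_lift_mprod {W : Scheme.{u}} (c : W ⟶ pullback f g) {U : W.Opens} (hU : IsDenseOpen U)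
    (hc : U ≤ c ⁻¹ᵁ ModPair.prodInterior f g I J) :
    ∃ c' : W ⟶ ModPair.mprod f g I J, c' ≫ ModPair.mprodι f g I J = c := by
  let P := ModPair.prodInterior f g I J
  let l := IsOpenImmersion.lift P.ι (U.ι ≫ c) (by
    rw [Scheme.Opens.range_ι]
    rintro _ ⟨z, rfl⟩
    exact hc z.2)
  refine ⟨IsClosedImmersion.lift _ c ?_, IsClosedImmersion.lift_fac _ _ _⟩
  rw [Scheme.IdealSheafData.ker_subschemeι]
  calc P.ι.ker ≤ (l ≫ P.ι).ker := Scheme.Hom.le_ker_comp _ _
    _ = (U.ι ≫ c).ker := by rw [IsOpenImmersion.lift_fac]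
    _ = c.ker := by
      have := hU.isSTD
      rw [Scheme.Hom.ker_comp, U.ι.ker_eq_bot, Scheme.IdealSheafData.map_bot]

theorem interior_comp {U : Scheme.{u}} {IU : U.IdealSheafData} {IX : X.IdealSheafData}
    {a : U ⟶ X} (h : ModPair.IsAmbient IU IX a) :
    ModPair.interior IU ≤ a ⁻¹ᵁ ModPair.interior IX :=
  interior_comap IX a ▸ interior_anti h

end Pairs

end Groth.Agent.ModPairLib
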