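import Groth.Agent.ModPairLib.Pair

/-!
# Ambient products of modulus pairs
-/

set_option autoImplicit false
set_option backward.isDefEq.respectTransparency.types false

universe u

open CategoryTheory Limits AlgebraicGeometry TopologicalSpace ModPair

namespace Groth.Agent.ModPairLib

variable {X Y Z : Scheme.{u}}

theorem interior_mul (I J : X.IdealSheafData) :
    ModPair.interior (I * J) = ModPair.interior I ⊓ ModPair.interior J := by
  ext x
  simp [ModPair.interior]

theorem IsDenseOpen.preimage_openImmersion (j : Z ⟶ X) [IsOpenImmersion j] (U : X.Opens)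
    [IsAffineHom U.ι] (hU : IsDenseOpen U) : IsDenseOpen (j ⁻¹ᵁ U) := by
  have := hU.isSTD
  have := isAffineHom_preimage j U
  have := IsSchemeTheoreticallyDominant.of_isPullback (isPullback_morphismRestrict j U)
  exact .of_isSTD _

theorem IsDenseOpen.trans {U W : X.Opens} [IsAffineHom U.ι] (hle : U ≤ W) (hW : IsDenseOpen W)
    (hU : IsDenseOpen (W.ι ⁻¹ᵁ U)) : IsDenseOpen U := by
  have := hW.isSTD
  have := hU.isSTD
  have hr : Set.range ((W.ι ⁻¹ᵁ U).ι ≫ W.ι) = Set.range U.ι := by
    ext y
    simp only [Scheme.Opens.range_ι, SetLike.mem_coe]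
    constructor
    · rintro ⟨⟨w, hw⟩, rfl⟩; exact hw
    · exact fun hy => ⟨⟨⟨y, hle hy⟩, hy⟩, rfl⟩
  let e := IsOpenImmersion.isoOfRangeEq ((W.ι ⁻¹ᵁ U).ι ≫ W.ι) U.ι hr
  have : IsSchemeTheoreticallyDominant U.ι := by
    rw [show U.ι = e.inv ≫ (W.ι ⁻¹ᵁ U).ι ≫ W.ι by simp [e]]
    infer_instance
  exact .of_isSTD _

section

variable {S T : Scheme.{u}} {f : X ⟶ S} {g : T ⟶ S} {I : X.IdealSheafData} {J : T.IdealSheafData}
  {π : Y ⟶ ModPair.mprod f g I J} {K : Y.IdealSheafData}

theorem comap_prodCentre (c : Z ⟶ ModPair.mprod f g I J) :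
    (ModPair.prodCentre f g I J).comap c =
      I.comap (c ≫ ModPair.mprodι f g I J ≫ pullback.fst f g) ⊔
        J.comap (c ≫ ModPair.mprodι f g I J ≫ pullback.snd f g) := by
  simp only [ModPair.prodCentre, Scheme.IdealSheafData.comap_sup, Scheme.IdealSheafData.comap_comp]

theorem mprod_preimage_le_interior :
    ModPair.mprodι f g I J ⁻¹ᵁ ModPair.prodInterior f g I J ≤
      ModPair.interior (ModPair.prodCentre f g I J) := by
  refine le_trans ?_ (interior_anti (le_sup_left :
    I.comap (ModPair.mprodι f g I J ≫ pullback.fst f g) ≤ ModPair.prodCentre f g I J))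
  rw [interior_comap, Scheme.Hom.comp_preimage]
  exact Scheme.Hom.preimage_mono _ inf_le_left

variable (hI : BlowUp.IsEffCartierIdeal I) (hJ : BlowUp.IsEffCartierIdeal J)

include hI hJ in
/-- The preimage of the product of the interiors in a blow-up of `mprod` in the centre is dense. -/
theorem isDenseOpen_blowUp (hπ : BlowUp.IsBlowUp π (ModPair.prodCentre f g I J)) :
    IsDenseOpen ((π ≫ ModPair.mprodι f g I J) ⁻¹ᵁ ModPair.prodInterior f g I J) := by
  set P' := ModPair.mprodι f g I J ⁻¹ᵁ ModPair.prodInterior f g I J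
  set Wc := ModPair.interior (ModPair.prodCentre f g I J)
  have := isAffineHom_prodInterior (f := f) (g := g) hI hJ
  have hP' : IsAffineHom P'.ι := isAffineHom_preimage _ _
  have : IsAffineHom (π ⁻¹ᵁ P').ι := isAffineHom_preimage _ _
  have : IsAffineHom (Wc.ι ⁻¹ᵁ P').ι := isAffineHom_preimage _ _
  have : IsIso (π ∣_ Wc) := ProjLib.isIso_morphismRestrict hπ Wc disjoint_compl_right
  rw [Scheme.Hom.comp_preimage]
  refine IsDenseOpen.trans (W := π ⁻¹ᵁ Wc) (Scheme.Hom.preimage_mono _ mprod_preimage_le_interior)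
    (interior_comap (ModPair.prodCentre f g I J) π ▸ isDenseOpen_interior hπ.1) ?_
  rw [← Scheme.Hom.comp_preimage, ← morphismRestrict_ι, Scheme.Hom.comp_preimage]
  exact IsDenseOpen.preimage_openImmersion _ _
    (IsDenseOpen.preimage_openImmersion _ _ (isDenseOpen_mprod hI hJ))

variable (hY : ModPair.IsAmbProd f g I J π K)

include hI hJ hY in
theorem isEffCartier_fst_snd :
    BlowUp.IsEffCartierIdeal ((I.comap (ModPair.mprodι f g I J ≫ pullback.fst f g)).comap π) ∧
      BlowUp.IsEffCartierIdeal ((J.comap (ModPair.mprodι f g I J ≫ pullback.snd f g)).comap π) := by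
  have hd := isDenseOpen_blowUp hI hJ hY.1
  rw [← Scheme.IdealSheafData.comap_comp, ← Scheme.IdealSheafData.comap_comp, ← Category.assoc,
    ← Category.assoc]
  exact ⟨isEffCartier_comap_of_dense hI _ (hd.mono (Scheme.Hom.preimage_mono _ inf_le_left)),
    isEffCartier_comap_of_dense hJ _ (hd.mono (Scheme.Hom.preimage_mono _ inf_le_right))⟩

include hI hJ hY in
theorem AmbProd.isEffCartier : BlowUp.IsEffCartierIdeal K := by
  obtain ⟨h1, h2⟩ := isEffCartier_fst_snd hI hJ hY
  exact isEffCartier_of_mul (hY.2 ▸ isEffCartier_mul h1 h2) hY.1.1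

include hY in
theorem AmbProd.le_fst :
    K ≤ I.comap (π ≫ ModPair.mprodι f g I J ≫ pullback.fst f g) := by
  rw [Scheme.IdealSheafData.comap_comp]
  refine le_of_mul_le_mul hY.1.1 (hY.2.le.trans (mul_le_mul_right ?_ _))
  exact Scheme.IdealSheafData.comap_mono π le_sup_right

include hY in
theorem AmbProd.le_snd :
    K ≤ J.comap (π ≫ ModPair.mprodι f g I J ≫ pullback.snd f g) := by
  rw [Scheme.IdealSheafData.comap_comp]
  refine le_of_mul_le_mul hY.1.1 (hY.2.le.trans ?_)
  rw [mul_comm _ ((J.comap _).comap π)]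
  exact mul_le_mul_right (Scheme.IdealSheafData.comap_mono π le_sup_left) _

include hY in
theorem AmbProd.le_centre : K ≤ (ModPair.prodCentre f g I J).comap π :=
  (AmbProd.le_fst hY).trans (le_of_le_of_eq
    (le_sup_left (b := J.comap (π ≫ ModPair.mprodι f g I J ≫ pullback.snd f g)))
    (comap_prodCentre π).symm)

include hY in
theorem AmbProd.interior_eq :
    ModPair.interior K = (π ≫ ModPair.mprodι f g I J) ⁻¹ᵁ ModPair.prodInterior f g I J := by
  have h1 : ModPair.interior K = ModPair.interior (K * (ModPair.prodCentre f g I J).comap π) := by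
    rw [interior_mul, inf_of_le_left (interior_anti (AmbProd.le_centre hY))]
  rw [h1, hY.2, interior_mul, ← Scheme.IdealSheafData.comap_comp, ← Scheme.IdealSheafData.comap_comp,
    interior_comap, interior_comap, ← Category.assoc, ← Category.assoc]
  rfl

end

end Groth.Agent.ModPairLib

namespace Groth.Agent.ModPairLib

open BlowUp in
theorem isFiniteType_sup {X : Scheme.{u}} {A B : X.IdealSheafData} (hA : IsFiniteTypeIdeal A)
    (hB : IsFiniteTypeIdeal B) : IsFiniteTypeIdeal (A ⊔ B) := fun U => by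
  rw [Scheme.IdealSheafData.ideal_sup, Pi.sup_apply]
  exact Submodule.FG.sup (hA U) (hB U)

theorem isFiniteType_prodCentre {X S T : Scheme.{u}} {f : X ⟶ S} {g : T ⟶ S}
    {I : X.IdealSheafData} {J : T.IdealSheafData} (hI : BlowUp.IsEffCartierIdeal I)
    (hJ : BlowUp.IsEffCartierIdeal J) :
    BlowUp.IsFiniteTypeIdeal (ModPair.prodCentre f g I J) :=
  isFiniteType_sup (isFiniteType_of_effCartier (isEffCartier_comap_mprod_fst hI hJ))
    (isFiniteType_of_effCartier (isEffCartier_comap_mprod_snd hI hJ))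

end Groth.Agent.ModPairLib
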