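import Mathlib.CategoryTheory.Localization.CalculusOfFractions
import Mathlib.CategoryTheory.Limits.Shapes.Pullback.IsPullback.Basic
import Mathlib.CategoryTheory.Limits.Shapes.Terminal
import Mathlib.CategoryTheory.Limits.Constructions.Equalizers
import Mathlib.CategoryTheory.Limits.Constructions.BinaryProducts
import Mathlib.CategoryTheory.Limits.Constructions.LimitsOfProductsAndEqualizers

/-!
# Pullbacks in a localization with a calculus of right fractions
-/

set_option autoImplicit false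

universe v₁ v₂ u₁ u₂

open CategoryTheory Limits

namespace Groth.Agent.ModPairLib

variable {C : Type u₁} [Category.{v₁} C] {D : Type u₂} [Category.{v₂} D] (L : C ⥤ D)
  (W : MorphismProperty C) [L.IsLocalization W] [W.HasRightCalculusOfFractions]

theorem exists_fraction {Z X : C} (α : L.obj Z ⟶ L.obj X) :
    ∃ (Z' : C) (s : Z' ⟶ Z) (_ : W s) (a : Z' ⟶ X), L.map s ≫ α = L.map a := by
  obtain ⟨φ, hφ⟩ := Localization.exists_rightFraction L W α
  exact ⟨φ.X', φ.s, φ.hs, φ.f, by rw [hφ, MorphismProperty.RightFraction.map_s_comp_map]⟩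

theorem exists_fraction₂ {Z X Y : C} (α : L.obj Z ⟶ L.obj X) (β : L.obj Z ⟶ L.obj Y) :
    ∃ (Z' : C) (s : Z' ⟶ Z) (_ : W s) (a : Z' ⟶ X) (b : Z' ⟶ Y),
      L.map s ≫ α = L.map a ∧ L.map s ≫ β = L.map b := by
  obtain ⟨Z₁, s₁, hs₁, a, ha⟩ := exists_fraction L W α
  obtain ⟨Z₂, s₂, hs₂, b, hb⟩ := exists_fraction L W β
  obtain ⟨ψ, hψ⟩ := (MorphismProperty.LeftFraction.mk s₁ s₂ hs₂).exists_rightFraction
  dsimp only at hψ
  refine ⟨ψ.X', ψ.s ≫ s₁, W.comp_mem _ _ ψ.hs hs₁, ψ.s ≫ a, ψ.f ≫ b, ?_, ?_⟩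
  · rw [L.map_comp, Category.assoc, ha, L.map_comp]
  · rw [hψ, L.map_comp, Category.assoc, hb, L.map_comp]

/-- A commutative square which is a pullback up to `W` becomes a pullback in the localization. -/
theorem isPullback_map {P X T S : C} {q : P ⟶ T} {r : P ⟶ X} {g : T ⟶ S} {f : X ⟶ S}
    (hw : q ≫ g = r ≫ f)
    (hlift : ∀ (Z : C) (a : Z ⟶ T) (b : Z ⟶ X), a ≫ g = b ≫ f →
      ∃ (Z' : C) (s : Z' ⟶ Z) (_ : W s) (c : Z' ⟶ P), c ≫ q = s ≫ a ∧ c ≫ r = s ≫ b)
    (huniq : ∀ (Z : C) (c c' : Z ⟶ P), c ≫ q = c' ≫ q → c ≫ r = c' ≫ r →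
      ∃ (Z' : C) (s : Z' ⟶ Z) (_ : W s), s ≫ c = s ≫ c') :
    IsPullback (L.map q) (L.map r) (L.map g) (L.map f) := by
  have := Localization.essSurj L W
  have hw' : L.map q ≫ L.map g = L.map r ≫ L.map f := by rw [← L.map_comp, hw, L.map_comp]
  have ex : ∀ (Z : C) (α : L.obj Z ⟶ L.obj T) (β : L.obj Z ⟶ L.obj X),
      α ≫ L.map g = β ≫ L.map f → ∃! γ : L.obj Z ⟶ L.obj P, γ ≫ L.map q = α ∧ γ ≫ L.map r = β := by
    intro Z α β h
    obtain ⟨Z₁, s, hs, a, b, ha, hb⟩ := exists_fraction₂ L W α β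
    have hab : L.map (a ≫ g) = L.map (b ≫ f) := by
      rw [L.map_comp, L.map_comp, ← ha, ← hb, Category.assoc, Category.assoc, h]
    obtain ⟨Z₂, v, hv, hv'⟩ := (MorphismProperty.map_eq_iff_precomp L W _ _).1 hab
    obtain ⟨Z₃, t, ht, c, hc₁, hc₂⟩ := hlift Z₂ (v ≫ a) (v ≫ b) (by simpa using hv')
    have hw₁ : W (t ≫ v ≫ s) := W.comp_mem _ _ ht (W.comp_mem _ _ hv hs)
    have := Localization.inverts L W _ hw₁
    refine ⟨inv (L.map (t ≫ v ≫ s)) ≫ L.map c, ⟨?_, ?_⟩, fun γ ⟨h₁, h₂⟩ => ?_⟩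
    · rw [Category.assoc, IsIso.inv_comp_eq, ← L.map_comp, hc₁]
      simp only [L.map_comp, Category.assoc, ha]
    · rw [Category.assoc, IsIso.inv_comp_eq, ← L.map_comp, hc₂]
      simp only [L.map_comp, Category.assoc, hb]
    · rw [IsIso.eq_inv_comp]
      obtain ⟨Z₄, u, hu, e, he⟩ := exists_fraction L W (L.map (t ≫ v ≫ s) ≫ γ)
      have := Localization.inverts L W _ hu
      rw [← cancel_epi (L.map u), he, ← L.map_comp]
      have e₁ : L.map (e ≫ q) = L.map ((u ≫ c) ≫ q) := by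
        rw [L.map_comp, ← he]
        simp only [Category.assoc, h₁, L.map_comp, ha]
        rw [← L.map_comp c q, hc₁]
        simp only [L.map_comp, Category.assoc]
      obtain ⟨Z₅, v₁, hv₁, hv₁'⟩ := (MorphismProperty.map_eq_iff_precomp L W _ _).1 e₁
      have e₂ : L.map ((v₁ ≫ e) ≫ r) = L.map ((v₁ ≫ u ≫ c) ≫ r) := by
        rw [L.map_comp, L.map_comp, ← he]
        simp only [Category.assoc, h₂, L.map_comp, hb]
        rw [← L.map_comp c r, hc₂]
        simp only [L.map_comp, Category.assoc, hb]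
      obtain ⟨Z₆, v₂, hv₂, hv₂'⟩ := (MorphismProperty.map_eq_iff_precomp L W _ _).1 e₂
      obtain ⟨Z₇, v₃, hv₃, hv₃'⟩ := huniq Z₆ (v₂ ≫ v₁ ≫ e) (v₂ ≫ v₁ ≫ u ≫ c)
        (by simp only [Category.assoc] at hv₁' ⊢; rw [hv₁'])
        (by simpa using hv₂')
      refine (MorphismProperty.map_eq_iff_precomp L W _ _).2
        ⟨Z₇, v₃ ≫ v₂ ≫ v₁, W.comp_mem _ _ hv₃ (W.comp_mem _ _ hv₂ hv₁), ?_⟩
      simpa using hv₃'
  refine ⟨⟨hw'⟩, ⟨PullbackCone.IsLimit.mk hw'
    (fun s => (L.objObjPreimageIso s.pt).inv ≫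
      (ex _ ((L.objObjPreimageIso s.pt).hom ≫ s.fst) ((L.objObjPreimageIso s.pt).hom ≫ s.snd)
        (by simp only [Category.assoc, s.condition])).choose) ?_ ?_ ?_⟩⟩
  · intro s
    rw [Category.assoc, (ex _ ((L.objObjPreimageIso s.pt).hom ≫ s.fst)
      ((L.objObjPreimageIso s.pt).hom ≫ s.snd)
      (by simp only [Category.assoc, s.condition])).choose_spec.1.1, Iso.inv_hom_id_assoc]
  · intro s
    rw [Category.assoc, (ex _ ((L.objObjPreimageIso s.pt).hom ≫ s.fst)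
      ((L.objObjPreimageIso s.pt).hom ≫ s.snd)
      (by simp only [Category.assoc, s.condition])).choose_spec.1.2, Iso.inv_hom_id_assoc]
  · intro s m h₁ h₂
    rw [Iso.eq_inv_comp]
    exact (ex _ ((L.objObjPreimageIso s.pt).hom ≫ s.fst) ((L.objObjPreimageIso s.pt).hom ≫ s.snd)
      (by simp only [Category.assoc, s.condition])).choose_spec.2 _
        ⟨by rw [Category.assoc, h₁], by rw [Category.assoc, h₂]⟩

include W in
/-- If all cospans in `C` complete to squares that become pullbacks, the localization has pullbacks. -/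
theorem hasPullbacks_of_isPullback
    (h : ∀ {X T S : C} (f : X ⟶ S) (g : T ⟶ S), ∃ (P : C) (q : P ⟶ T) (r : P ⟶ X),
      IsPullback (L.map q) (L.map r) (L.map g) (L.map f)) : HasPullbacks D := by
  have := Localization.essSurj L W
  refine @hasPullbacks_of_hasLimit_cospan _ _ fun {X' T' S'} f' g' => ?_
  let eS := L.objObjPreimageIso S'
  let eX := L.objObjPreimageIso X'
  let eT := L.objObjPreimageIso T'
  obtain ⟨X₁, s, hs, a, ha⟩ := exists_fraction L W (eX.hom ≫ f' ≫ eS.inv)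
  obtain ⟨T₁, t, ht, b, hb⟩ := exists_fraction L W (eT.hom ≫ g' ≫ eS.inv)
  have := Localization.inverts L W _ hs
  have := Localization.inverts L W _ ht
  obtain ⟨P, q, r, hp⟩ := h a b
  have key := hp.flip.of_iso (fst' := L.map r ≫ L.map s ≫ eX.hom) (snd' := L.map q ≫ L.map t ≫ eT.hom)
    (f' := f') (g' := g') (Iso.refl _) (asIso (L.map s) ≪≫ eX) (asIso (L.map t) ≪≫ eT) eS
    (by simp) (by simp) (by simp [← ha]) (by simp [← hb])
  exact key.hasPullback

end Groth.Agent.ModPairLib
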