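import Groth.Agent.ModPairLib.AmbProd
import Groth.Agent.ModPairLib.CatLimits
import Groth.Agent.BlowUpLib.Proper

/-!
# Pullbacks of modulus pairs up to admissible blow-ups
-/

set_option autoImplicit false
set_option backward.isDefEq.respectTransparency.types false

universe u

open CategoryTheory Limits AlgebraicGeometry TopologicalSpace ModPair

namespace Groth.Agent.ModPairLib

variable {X Y Z : Scheme.{u}}

/-- The preimage of a dense open off the centre is dense in a blow-up. -/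
theorem isDenseOpen_preimage_blowUp {σ : Y ⟶ X} {C : X.IdealSheafData} (hσ : BlowUp.IsBlowUp σ C)
    {U : X.Opens} [IsAffineHom U.ι] (hU : IsDenseOpen U) (hle : U ≤ ModPair.interior C) :
    IsDenseOpen (σ ⁻¹ᵁ U) := by
  set Wc := ModPair.interior C
  have : IsAffineHom (σ ⁻¹ᵁ U).ι := isAffineHom_preimage _ _
  have : IsAffineHom (Wc.ι ⁻¹ᵁ U).ι := isAffineHom_preimage _ _
  have : IsIso (σ ∣_ Wc) := ProjLib.isIso_morphismRestrict hσ Wc disjoint_compl_right
  refine IsDenseOpen.trans (W := σ ⁻¹ᵁ Wc) (Scheme.Hom.preimage_mono _ hle)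
    (interior_comap C σ ▸ isDenseOpen_interior hσ.1) ?_
  rw [← Scheme.Hom.comp_preimage, ← morphismRestrict_ι, Scheme.Hom.comp_preimage]
  exact IsDenseOpen.preimage_openImmersion _ _ (IsDenseOpen.preimage_openImmersion _ _ hU)

theorem isIso_restrict_mono {σ : Y ⟶ X} {V U : X.Opens} (h : U ≤ V) [IsIso (σ ∣_ V)] :
    IsIso (σ ∣_ U) := by
  have hp : IsIso (pullback.snd σ (𝟙 X) ∣_ U) :=
    isIso_restrict_of_le σ (𝟙 X) V U (by simpa using h) inferInstance
  have e : σ = (asIso (pullback.fst σ (𝟙 X))).inv ≫ pullback.snd σ (𝟙 X) := by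
    rw [Iso.eq_inv_comp, asIso_hom, pullback.condition, Category.comp_id]
  rw [e, morphismRestrict_comp]
  refine @IsIso.comp_isIso _ _ _ _ _ _ _ ?_ hp
  have := Iso.isIso_inv (asIso (pullback.fst σ (𝟙 X)))
  exact inferInstanceAs (IsIso ((asIso (pullback.fst σ (𝟙 X))).inv ∣_ _))

/-- An admissible blow-up making a given finite type ideal, trivial on the interior, effective Cartier. -/
theorem exists_admBlowup_of_centre (P : Pair.{u}) (C : P.total.IdealSheafData)
    (hC : BlowUp.IsFiniteTypeIdeal C) (hle : ModPair.interior P.mod ≤ ModPair.interior C) :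
    ∃ (P' : Pair.{u}) (σ : P' ⟶ P), Pair.admBlowup σ ∧ BlowUp.IsBlowUp σ.hom C := by
  obtain ⟨Y, σ, hσ⟩ := BlowUpLib.exists_isBlowUp C
  have := isAffineHom_interior P.isEffCartier
  have hY : BlowUp.IsEffCartierIdeal (P.mod.comap σ) :=
    isEffCartier_comap_of_dense P.isEffCartier σ
      (isDenseOpen_preimage_blowUp hσ (isDenseOpen_interior P.isEffCartier) hle)
  have : IsIso (σ ∣_ ModPair.interior C) :=
    ProjLib.isIso_morphismRestrict hσ _ disjoint_compl_right
  exact ⟨⟨Y, P.mod.comap σ, hY⟩, ⟨σ, le_rfl⟩,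
    ⟨rfl, BlowUpLib.isProper_of_isBlowUp hσ hC, isIso_restrict_mono hle⟩, hσ⟩

variable {P T X' : Pair.{u}} (f : X' ⟶ P) (g : T ⟶ P) {W : Scheme.{u}}
  (π : W ⟶ ModPair.mprod f.hom g.hom X'.mod T.mod) (K : W.IdealSheafData)
  (hY : ModPair.IsAmbProd f.hom g.hom X'.mod T.mod π K) (hK : BlowUp.IsEffCartierIdeal K)

include hY in
/-- A cospan of ambient morphisms lifts to the ambient product after an admissible blow-up. -/
theorem exists_lift_ambProd (Z : Pair.{u}) (a : Z ⟶ T) (b : Z ⟶ X') (w : a ≫ g = b ≫ f) :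
    ∃ (Z' : Pair.{u}) (σ : Z' ⟶ Z) (_ : Pair.admBlowup σ) (c : Z' ⟶ (⟨W, K, hK⟩ : Pair.{u})),
      c.hom ≫ π ≫ ModPair.mprodι f.hom g.hom X'.mod T.mod ≫ pullback.fst f.hom g.hom =
          σ.hom ≫ b.hom ∧
        c.hom ≫ π ≫ ModPair.mprodι f.hom g.hom X'.mod T.mod ≫ pullback.snd f.hom g.hom =
          σ.hom ≫ a.hom := by
  let c₀ := pullback.lift b.hom a.hom (congrArg Pair.Hom.hom w).symm
  have hint : ModPair.interior Z.mod ≤
      c₀ ⁻¹ᵁ ModPair.prodInterior f.hom g.hom X'.mod T.mod := by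
    rw [ModPair.prodInterior, Scheme.Hom.preimage_inf]
    refine le_inf ?_ ?_
    · rw [← Scheme.Hom.comp_preimage, pullback.lift_fst]
      exact Pair.hom_interior b
    · rw [← Scheme.Hom.comp_preimage, pullback.lift_snd]
      exact Pair.hom_interior a
  obtain ⟨c', hc'⟩ := exists_lift_mprod c₀ (isDenseOpen_interior Z.isEffCartier) hint
  have hC : (ModPair.prodCentre f.hom g.hom X'.mod T.mod).comap c' =
      X'.mod.comap b.hom ⊔ T.mod.comap a.hom := by
    rw [comap_prodCentre, reassoc_of% hc', reassoc_of% hc', pullback.lift_fst, pullback.lift_snd]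
  have hAe : BlowUp.IsEffCartierIdeal (X'.mod.comap b.hom) :=
    isEffCartier_comap_of_dense X'.isEffCartier _
      ((isDenseOpen_interior Z.isEffCartier).mono (Pair.hom_interior b))
  have hBe : BlowUp.IsEffCartierIdeal (T.mod.comap a.hom) :=
    isEffCartier_comap_of_dense T.isEffCartier _
      ((isDenseOpen_interior Z.isEffCartier).mono (Pair.hom_interior a))
  obtain ⟨Z', σ, hσ, hbl⟩ := exists_admBlowup_of_centre Z _
    (isFiniteType_sup (isFiniteType_of_effCartier hAe) (isFiniteType_of_effCartier hBe))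
    (le_trans ((interior_comap X'.mod b.hom).symm ▸ Pair.hom_interior b) (interior_anti le_sup_left))
  obtain ⟨c, hc, -⟩ := hY.1.2 _ (σ.hom ≫ c') (by
    rw [Scheme.IdealSheafData.comap_comp, hC]
    exact hbl.1)
  have hfst : c ≫ π ≫ ModPair.mprodι f.hom g.hom X'.mod T.mod ≫ pullback.fst f.hom g.hom =
      σ.hom ≫ b.hom := by
    rw [reassoc_of% hc, reassoc_of% hc', pullback.lift_fst]
  have hsnd : c ≫ π ≫ ModPair.mprodι f.hom g.hom X'.mod T.mod ≫ pullback.snd f.hom g.hom =
      σ.hom ≫ a.hom := by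
    rw [reassoc_of% hc, reassoc_of% hc', pullback.lift_snd]
  let A := (X'.mod.comap b.hom).comap σ.hom
  let B := (T.mod.comap a.hom).comap σ.hom
  have hE : (ModPair.prodCentre f.hom g.hom X'.mod T.mod).comap (c ≫ π) = A ⊔ B := by
    rw [hc, Scheme.IdealSheafData.comap_comp, hC, Scheme.IdealSheafData.comap_sup]
  have hEe : BlowUp.IsEffCartierIdeal (A ⊔ B) := by
    have := hbl.1
    rwa [Scheme.IdealSheafData.comap_sup] at this
  have hle : ∀ (V : Pair.{u}) (h : Z ⟶ V), Z'.mod ≤ (V.mod.comap h.hom).comap σ.hom := fun V h => by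
    rw [← Scheme.IdealSheafData.comap_comp]
    exact (σ ≫ h).cond
  have hcond : Z'.mod ≤ K.comap c := by
    have hA : colon A (A ⊔ B) (isFiniteType_of_effCartier hEe) * (A ⊔ B) = A :=
      colon_mul hEe le_sup_left
    have hB : colon B (A ⊔ B) (isFiniteType_of_effCartier hEe) * (A ⊔ B) = B :=
      colon_mul hEe le_sup_right
    set A' := colon A (A ⊔ B) (isFiniteType_of_effCartier hEe)
    set B' := colon B (A ⊔ B) (isFiniteType_of_effCartier hEe)
    have hK' : K.comap c * (A ⊔ B) = A * B := by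
      rw [← hE, Scheme.IdealSheafData.comap_comp _ c π, ← comap_mul, hY.2, comap_mul,
        ← Scheme.IdealSheafData.comap_comp, ← Scheme.IdealSheafData.comap_comp,
        ← Scheme.IdealSheafData.comap_comp, ← Scheme.IdealSheafData.comap_comp, Category.assoc,
        Category.assoc, hfst, hsnd, Scheme.IdealSheafData.comap_comp, Scheme.IdealSheafData.comap_comp]
    have hKc : K.comap c = A' * B' * (A ⊔ B) := by
      refine eq_of_mul_eq_mul hEe (hK'.trans ?_)
      exact (congrArg₂ (· * ·) hA hB).symm.trans (by ac_rfl)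
    rw [hKc]
    refine le_mul_mul hEe (eq_top_of_mul_eq hEe ?_) (hA.symm ▸ hle _ b) (hB.symm ▸ hle _ a)
    rw [Scheme.IdealSheafData.inf_mul, hA, hB]
  exact ⟨Z', σ, hσ, ⟨c, hcond⟩, hfst, hsnd⟩

include hY in
/-- Morphisms to the ambient product are determined by their projections. -/
theorem hom_ext_ambProd (Z : Pair.{u}) (c c' : Z ⟶ (⟨W, K, hK⟩ : Pair.{u}))
    (h₁ : c.hom ≫ π ≫ ModPair.mprodι f.hom g.hom X'.mod T.mod ≫ pullback.fst f.hom g.hom =
      c'.hom ≫ π ≫ ModPair.mprodι f.hom g.hom X'.mod T.mod ≫ pullback.fst f.hom g.hom)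
    (h₂ : c.hom ≫ π ≫ ModPair.mprodι f.hom g.hom X'.mod T.mod ≫ pullback.snd f.hom g.hom =
      c'.hom ≫ π ≫ ModPair.mprodι f.hom g.hom X'.mod T.mod ≫ pullback.snd f.hom g.hom) :
    c = c' := by
  have e : c.hom ≫ π = c'.hom ≫ π := by
    rw [← cancel_mono (ModPair.mprodι f.hom g.hom X'.mod T.mod)]
    apply pullback.hom_ext <;> simpa
  have hE : BlowUp.IsEffCartierIdeal
      ((ModPair.prodCentre f.hom g.hom X'.mod T.mod).comap (c.hom ≫ π)) := by
    rw [Scheme.IdealSheafData.comap_comp]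
    exact isEffCartier_comap_of_dense hY.1.1 _ ((isDenseOpen_interior Z.isEffCartier).mono
      (interior_comp (c.cond.trans (Scheme.IdealSheafData.comap_mono _ (AmbProd.le_centre hY)))))
  exact Pair.Hom.ext ((hY.1.2 _ _ hE).unique rfl e.symm)

end Groth.Agent.ModPairLib

namespace Groth.Agent.ModPairLib

theorem isPullback_localization {P T X' : Pair.{u}} (f : X' ⟶ P) (g : T ⟶ P) {W : Scheme.{u}}
    (π : W ⟶ ModPair.mprod f.hom g.hom X'.mod T.mod) (K : W.IdealSheafData)
    (hY : ModPair.IsAmbProd f.hom g.hom X'.mod T.mod π K) (hK : BlowUp.IsEffCartierIdeal K)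
    {D : Type (u + 1)} [Category.{u + 1} D] (L : Pair.{u} ⥤ D) [L.IsLocalization Pair.admBlowup.{u}]
    (q : (⟨W, K, hK⟩ : Pair.{u}) ⟶ T) (r : (⟨W, K, hK⟩ : Pair.{u}) ⟶ X')
    (hq : q.hom = π ≫ ModPair.mprodι f.hom g.hom X'.mod T.mod ≫ pullback.snd f.hom g.hom)
    (hr : r.hom = π ≫ ModPair.mprodι f.hom g.hom X'.mod T.mod ≫ pullback.fst f.hom g.hom) :
    IsPullback (L.map q) (L.map r) (L.map g) (L.map f) := by
  refine isPullback_map L Pair.admBlowup (Pair.Hom.ext ?_) (fun Z a b w => ?_)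
    (fun Z c c' h₁ h₂ => ?_)
  · show q.hom ≫ g.hom = r.hom ≫ f.hom
    rw [hq, hr]
    simp only [Category.assoc, pullback.condition]
  · obtain ⟨Z', σ, hσ, c, hc₁, hc₂⟩ := exists_lift_ambProd f g π K hY hK Z a b w
    exact ⟨Z', σ, hσ, c, Pair.Hom.ext ((congrArg (c.hom ≫ ·) hq).trans hc₂),
      Pair.Hom.ext ((congrArg (c.hom ≫ ·) hr).trans hc₁)⟩
  · refine ⟨Z, 𝟙 Z, MorphismProperty.id_mem _ Z, ?_⟩
    rw [hom_ext_ambProd f g π K hY hK Z c c'
      (by rw [← hr]; exact congrArg Pair.Hom.hom h₂) (by rw [← hq]; exact congrArg Pair.Hom.hom h₁)]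

end Groth.Agent.ModPairLib

namespace Groth.Agent.ModPairLib

/-- The final modulus pair. -/
noncomputable def terminalPair : Pair.{u} :=
  ⟨⊤_ Scheme.{u}, ⊤, ProjLib.isEffCartierIdeal_top⟩

theorem hom_terminalPair_unique {Z : Pair.{u}} (a b : Z ⟶ terminalPair.{u}) : a = b :=
  Pair.Hom.ext (terminal.hom_ext _ _)

theorem hasTerminal_localization {D : Type (u + 1)} [Category.{u + 1} D] (L : Pair.{u} ⥤ D)
    [L.IsLocalization Pair.admBlowup.{u}] : HasTerminal D := by
  have := Localization.essSurj L Pair.admBlowup.{u}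
  let t (Z : Pair.{u}) : Z ⟶ terminalPair.{u} :=
    ⟨terminal.from _, le_top.trans (Scheme.IdealSheafData.comap_top _).ge⟩
  have huniq : ∀ (Z : Pair.{u}) (α : L.obj Z ⟶ L.obj terminalPair), α = L.map (t Z) := by
    intro Z α
    obtain ⟨Z', s, hs, a, ha⟩ := exists_fraction L Pair.admBlowup α
    have := Localization.inverts L Pair.admBlowup _ hs
    rw [← cancel_epi (L.map s), ha, ← L.map_comp]
    exact congrArg L.map (hom_terminalPair_unique _ _)
  exact IsTerminal.hasTerminal (X := L.obj terminalPair) (IsTerminal.ofUniqueHom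
    (fun Y => (L.objObjPreimageIso Y).inv ≫ L.map (t _)) fun Y m => by
      rw [Iso.eq_inv_comp]; exact huniq _ _)

theorem hasFiniteLimits_localization {D : Type (u + 1)} [Category.{u + 1} D] (L : Pair.{u} ⥤ D)
    [L.IsLocalization Pair.admBlowup.{u}] : HasFiniteLimits D := by
  have := hasTerminal_localization L
  have : HasPullbacks D := hasPullbacks_of_isPullback L Pair.admBlowup fun {X' T P} f g => by
    obtain ⟨Y, π, hπ⟩ := BlowUpLib.exists_isBlowUp (ModPair.prodCentre f.hom g.hom X'.mod T.mod)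
    obtain ⟨K, hK⟩ := exists_mul_eq hπ.1
      (I := (X'.mod.comap (ModPair.mprodι f.hom g.hom X'.mod T.mod ≫ pullback.fst f.hom g.hom)).comap π *
          (T.mod.comap (ModPair.mprodι f.hom g.hom X'.mod T.mod ≫ pullback.snd f.hom g.hom)).comap π)
      ((fun U => Ideal.mul_le_right.trans (Scheme.IdealSheafData.comap_mono π le_sup_right U)) :
        _ ≤ _)
    have hY : ModPair.IsAmbProd f.hom g.hom X'.mod T.mod π K := ⟨hπ, hK⟩
    exact ⟨⟨Y, K, AmbProd.isEffCartier X'.isEffCartier T.isEffCartier hY⟩,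
      ⟨_, AmbProd.le_snd hY⟩, ⟨_, AmbProd.le_fst hY⟩,
      isPullback_localization f g π K hY _ L _ _ rfl rfl⟩
  exact hasFiniteLimits_of_hasTerminal_and_pullbacks

end Groth.Agent.ModPairLib
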