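import Groth.Agent.ModPairLib.EffCartier

/-!
# Colon ideal sheaves by finite type ideals, and the decomposition of two effective Cartier ideals
-/

set_option autoImplicit false
set_option backward.isDefEq.respectTransparency.types false

universe u

open CategoryTheory Limits AlgebraicGeometry TopologicalSpace

namespace Groth.Agent.ModPairLib

section Ring

variable {R S : Type*} [CommRing R] [CommRing S]

/-- The colon ideal `(I : J)`. -/
def colonIdeal (I J : Ideal R) : Ideal R where
  carrier := {x | ∀ e ∈ J, x * e ∈ I}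
  add_mem' hx hy e he := by rw [add_mul]; exact add_mem (hx e he) (hy e he)
  zero_mem' e _ := by simp
  smul_mem' c x hx e he := by rw [smul_eq_mul, mul_assoc]; exact I.mul_mem_left c (hx e he)

theorem colonIdeal_map [Algebra R S] (g : R) [IsLocalization.Away g S] (I J : Ideal R) (hJ : J.FG) :
    (colonIdeal I J).map (algebraMap R S) =
      colonIdeal (I.map (algebraMap R S)) (J.map (algebraMap R S)) := by
  refine le_antisymm (Ideal.map_le_iff_le_comap.2 fun x hx => ?_) fun y hy => ?_
  · show algebraMap R S x ∈ colonIdeal (I.map (algebraMap R S)) (J.map (algebraMap R S))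
    intro e he
    have : J.map (algebraMap R S) * Ideal.span {algebraMap R S x} ≤ I.map (algebraMap R S) := by
      rw [← Set.image_singleton (f := algebraMap R S), ← Ideal.map_span, ← Ideal.map_mul]
      refine Ideal.map_mono fun z hz => ?_
      obtain ⟨w, hw, rfl⟩ := Ideal.mem_mul_span_singleton.1 hz
      rw [mul_comm]
      exact hx w hw
    rw [mul_comm]
    exact this (Ideal.mul_mem_mul he (Ideal.mem_span_singleton_self _))
  · obtain ⟨s, hs⟩ := hJ
    obtain ⟨x, ⟨_, m, rfl⟩, rfl⟩ := IsLocalization.exists_mk'_eq (Submonoid.powers g) y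
    have hmem : ∀ e ∈ s, ∃ n : ℕ, g ^ n * (x * e) ∈ I := fun e he => by
      have h1 := Ideal.mul_mem_right (algebraMap R S (g ^ m)) _
        (hy (algebraMap R S e) (Ideal.mem_map_of_mem _ (hs ▸ Ideal.subset_span he)))
      rw [mul_right_comm, IsLocalization.mk'_spec (M := Submonoid.powers g) S x ⟨g ^ m, m, rfl⟩,
        ← map_mul, IsLocalization.algebraMap_mem_map_algebraMap_iff (Submonoid.powers g)] at h1
      obtain ⟨_, ⟨n, rfl⟩, hn⟩ := h1
      exact ⟨n, hn⟩
    choose n hn using hmem
    let N := ∑ e ∈ s.attach, n e.1 e.2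
    rw [IsLocalization.mk'_mem_map_algebraMap_iff (Submonoid.powers g)]
    refine ⟨g ^ N, ⟨N, rfl⟩, fun e he => ?_⟩
    rw [← hs] at he
    induction he using Submodule.span_induction with
    | zero => simp
    | add a b _ _ ha hb => rw [mul_add]; exact add_mem ha hb
    | smul c a _ ha => rw [smul_eq_mul, mul_left_comm]; exact I.mul_mem_left c ha
    | mem a ha =>
      obtain ⟨d, hd⟩ := Nat.exists_eq_add_of_le
        (Finset.single_le_sum (f := fun e : s => n e.1 e.2) (fun _ _ => Nat.zero_le _)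
          (Finset.mem_attach s ⟨a, ha⟩) : n a ha ≤ N)
      rw [show g ^ N = g ^ (n a ha + d) from congrArg (g ^ ·) hd, pow_add, mul_comm (g ^ n a ha),
        mul_assoc, mul_assoc]
      exact I.mul_mem_left _ (hn a ha)

theorem colonIdeal_span {a c e : R} (he : e ∈ nonZeroDivisors R) (h : c * e = a) :
    colonIdeal (Ideal.span {a}) (Ideal.span {e}) = Ideal.span {c} := by
  ext x
  rw [Ideal.mem_span_singleton']
  constructor
  · intro hx
    obtain ⟨d, hd⟩ := Ideal.mem_span_singleton'.1 (hx e (Ideal.mem_span_singleton_self e))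
    rw [← h, ← mul_assoc, mul_cancel_right_mem_nonZeroDivisors he] at hd
    exact ⟨d, hd⟩
  · rintro ⟨d, rfl⟩ y hy
    obtain ⟨t, rfl⟩ := Ideal.mem_span_singleton'.1 hy
    exact Ideal.mem_span_singleton'.2 ⟨d * t, by rw [← h]; ring⟩

theorem span_singleton_mul_colonIdeal {I : Ideal R} {e : R} (h : I ≤ Ideal.span {e}) :
    colonIdeal I (Ideal.span {e}) * Ideal.span {e} = I := by
  refine le_antisymm (fun z hz => ?_) fun z hz => ?_
  · obtain ⟨w, hw, rfl⟩ := Ideal.mem_mul_span_singleton.1 hz
    exact hw e (Ideal.mem_span_singleton_self e)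
  · obtain ⟨w, rfl⟩ := Ideal.mem_span_singleton'.1 (h hz)
    refine Ideal.mem_mul_span_singleton.2 ⟨w, fun y hy => ?_, rfl⟩
    obtain ⟨t, rfl⟩ := Ideal.mem_span_singleton'.1 hy
    rw [mul_left_comm]
    exact I.mul_mem_left t hz

end Ring

variable {X : Scheme.{u}}

/-- The colon ideal sheaf `(I : E)` by a finite type ideal sheaf. -/
noncomputable def colon (I E : X.IdealSheafData) (hE : BlowUp.IsFiniteTypeIdeal E) :
    X.IdealSheafData where
  ideal U := colonIdeal (I.ideal U) (E.ideal U)
  map_ideal_basicOpen U f := by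
    have := U.2.isLocalization_basicOpen f
    rw [← I.map_ideal_basicOpen U f, ← E.map_ideal_basicOpen U f]
    exact colonIdeal_map (S := Γ(X, X.basicOpen f)) f _ _ (hE U)

theorem colon_mul {I E : X.IdealSheafData} (hE : BlowUp.IsEffCartierIdeal E) (h : I ≤ E) :
    colon I E (isFiniteType_of_effCartier hE) * E = I := by
  refine eq_of_local fun x => ?_
  obtain ⟨U, hxU, e, -, he⟩ := hE x
  refine ⟨U, hxU, ?_⟩
  simp only [colon, Scheme.IdealSheafData.ideal_mul, Pi.mul_apply, he]
  exact span_singleton_mul_colonIdeal (he ▸ h U)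

theorem isEffCartier_colon {I E : X.IdealSheafData} (hI : BlowUp.IsEffCartierIdeal I)
    (hE : BlowUp.IsEffCartierIdeal E) (h : I ≤ E) :
    BlowUp.IsEffCartierIdeal (colon I E (isFiniteType_of_effCartier hE)) :=
  isEffCartier_of_mul ((colon_mul hE h).symm ▸ hI) hE

theorem exists_mul_eq {I E : X.IdealSheafData} (hE : BlowUp.IsEffCartierIdeal E) (h : I ≤ E) :
    ∃ K : X.IdealSheafData, K * E = I :=
  ⟨_, colon_mul hE h⟩

theorem eq_top_of_mul_eq {A E : X.IdealSheafData} (hE : BlowUp.IsEffCartierIdeal E)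
    (h : A * E = E) : A = ⊤ :=
  eq_of_mul_eq_mul hE (h.trans (Scheme.IdealSheafData.top_mul _).symm)

/-- If `A ⊔ B = ⊤` and `D` is contained in both `A * E` and `B * E`, it is in `A * B * E`. -/
theorem le_mul_mul {A B E D : X.IdealSheafData} (hE : BlowUp.IsEffCartierIdeal E)
    (hAB : A ⊔ B = ⊤) (hA : D ≤ A * E) (hB : D ≤ B * E) : D ≤ A * B * E := by
  refine le_of_local fun x => ?_
  obtain ⟨U, hxU, e, he, heE⟩ := hE x
  refine ⟨U, hxU, fun d hd => ?_⟩
  have h1 := hA U hd
  have h2 := hB U hd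
  simp only [Scheme.IdealSheafData.ideal_mul, Pi.mul_apply, heE, Ideal.mem_mul_span_singleton] at h1 h2 ⊢
  obtain ⟨a, ha, rfl⟩ := h1
  obtain ⟨b, hb, hab⟩ := h2
  obtain rfl := (mul_cancel_right_mem_nonZeroDivisors he).1 hab
  refine ⟨b, ?_, rfl⟩
  have hc : A.ideal U ⊔ B.ideal U = ⊤ := congrArg (fun J => J.ideal U) hAB
  rw [Ideal.mul_eq_inf_of_coprime hc]
  exact ⟨ha, hb⟩

end Groth.Agent.ModPairLib
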