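import Groth.Agent.ModPairLib.MProd

/-!
# Isomorphisms over opens and base change
-/

set_option autoImplicit false
set_option backward.isDefEq.respectTransparency.types false

universe u

open CategoryTheory Limits AlgebraicGeometry TopologicalSpace

namespace Groth.Agent.ModPairLib

/-- If `s` is an isomorphism over `U`, its base change is an isomorphism over opens mapping to `U`. -/
theorem isIso_restrict_of_le {X S T : Scheme.{u}} (s : X ⟶ S) (g : T ⟶ S) (U : S.Opens) (V : T.Opens)
    (hV : V ≤ g ⁻¹ᵁ U) (h : IsIso (s ∣_ U)) : IsIso (pullback.snd s g ∣_ V) := by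
  let q := pullback.snd s g
  have hle : q ⁻¹ᵁ V ≤ pullback.fst s g ⁻¹ᵁ s ⁻¹ᵁ U := by
    rw [← Scheme.Hom.comp_preimage, pullback.condition, Scheme.Hom.comp_preimage]
    exact q.preimage_mono hV
  have hsq : IsPullback ((pullback.fst s g).resLE (s ⁻¹ᵁ U) (q ⁻¹ᵁ V) hle) (q ∣_ V)
      (s ∣_ U) (g.resLE U V hV) := by
    refine IsPullback.of_right (h₁₂ := (s ⁻¹ᵁ U).ι) (v₁₂ := s ∣_ U) (h₂₂ := U.ι) ?_ ?_
      (isPullback_morphismRestrict s U).flip
    · rw [Scheme.Hom.resLE_comp_ι, Scheme.Hom.resLE_comp_ι]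
      exact (isPullback_morphismRestrict q V).flip.paste_horiz (IsPullback.of_hasPullback s g)
    · rw [← cancel_mono U.ι, Category.assoc, Category.assoc, morphismRestrict_ι,
        Scheme.Hom.resLE_comp_ι_assoc, Scheme.Hom.resLE_comp_ι, morphismRestrict_ι_assoc,
        pullback.condition]
  exact hsq.isIso_snd_of_isIso

end Groth.Agent.ModPairLib
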