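import Groth.Agent.ModPairLib.AdmBlowup
import Groth.Agent.S18735
import Mathlib.CategoryTheory.Localization.CalculusOfFractions

/-!
# The category of modulus pairs and its admissible blow-ups
-/

set_option autoImplicit false
set_option backward.isDefEq.respectTransparency.types false

universe u

open CategoryTheory Limits AlgebraicGeometry TopologicalSpace ModPair

namespace Groth.Agent.ModPairLib

theorem Pair.hom_interior {P Q : Pair.{u}} (f : P ⟶ Q) :
    ModPair.interior P.mod ≤ f.hom ⁻¹ᵁ ModPair.interior Q.mod :=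
  interior_comp f.cond

theorem Pair.interior_eq {P Q : Pair.{u}} {s : P ⟶ Q} (hs : Pair.admBlowup s) :
    ModPair.interior P.mod = s.hom ⁻¹ᵁ ModPair.interior Q.mod := by
  rw [show P.mod = Q.mod.comap s.hom from hs.1, interior_comap]

/-- An ambient morphism is determined by its restriction to the interior, over a separated map. -/
theorem Pair.hom_eq_of_comp_eq {P Q R : Pair.{u}} {f₁ f₂ : P ⟶ Q} (s : Q ⟶ R)
    (hs : Pair.admBlowup s) (h : f₁ ≫ s = f₂ ≫ s) : f₁ = f₂ := by
  obtain ⟨hmin, hprop, hiso⟩ := hs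
  have hw : f₁.hom ≫ s.hom = f₂.hom ≫ s.hom := congrArg Pair.Hom.hom h
  have := hprop
  have := hiso
  refine Pair.Hom.ext ((isDenseOpen_interior P.isEffCartier).hom_ext s.hom hw ?_)
  let W := s.hom ⁻¹ᵁ ModPair.interior R.mod
  have hr : ∀ f : P ⟶ Q, Set.range ((ModPair.interior P.mod).ι ≫ f.hom) ⊆ Set.range W.ι := by
    rintro f _ ⟨z, rfl⟩
    rw [Scheme.Opens.range_ι]
    exact (Pair.interior_eq (s := s) ⟨hmin, hprop, hiso⟩).le (Pair.hom_interior f z.2)
  rw [← IsOpenImmersion.lift_fac W.ι _ (hr f₁), ← IsOpenImmersion.lift_fac W.ι _ (hr f₂)]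
  congr 1
  rw [← cancel_mono (s.hom ∣_ ModPair.interior R.mod), ← cancel_mono (ModPair.interior R.mod).ι]
  simp only [Category.assoc, morphismRestrict_ι, W, IsOpenImmersion.lift_fac_assoc, hw]

instance : (Pair.admBlowup.{u}).IsMultiplicative where
  id_mem P := by
    refine ⟨(Scheme.IdealSheafData.comap_id _).symm, ?_, ?_⟩
    · show IsProper (𝟙 P.total); infer_instance
    · show IsIso (𝟙 P.total ∣_ ModPair.interior P.mod); infer_instance
  comp_mem {P Q R} f g hf hg := by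
    refine ⟨?_, ?_, ?_⟩
    · show P.mod = R.mod.comap (f.hom ≫ g.hom)
      rw [Scheme.IdealSheafData.comap_comp, ← hg.1]
      exact hf.1
    · have := hf.2.1; have := hg.2.1
      show IsProper (f.hom ≫ g.hom); infer_instance
    · show IsIso ((f.hom ≫ g.hom) ∣_ ModPair.interior R.mod)
      rw [morphismRestrict_comp]
      have h1 : IsIso (f.hom ∣_ (g.hom ⁻¹ᵁ ModPair.interior R.mod)) := Pair.interior_eq hg ▸ hf.2.2
      exact @IsIso.comp_isIso _ _ _ _ _ _ _ h1 hg.2.2

/-- Completing a cospan with one leg an admissible blow-up. -/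
theorem Pair.exists_square {S T X : Pair.{u}} (g : T ⟶ S) (s : X ⟶ S) (hs : Pair.admBlowup s) :
    ∃ (Y : Pair.{u}) (t : Y ⟶ T) (r : Y ⟶ X), Pair.admBlowup t ∧ t ≫ g = r ≫ s := by
  obtain ⟨h1, h2, h3⟩ :=
    S18735.result S.mod T.mod X.mod S.isEffCartier T.isEffCartier X.isEffCartier g.hom g.cond s.hom hs
  refine ⟨⟨_, _, h1⟩, ⟨mprodι s.hom g.hom X.mod T.mod ≫ pullback.snd s.hom g.hom, h2.1.le⟩,
    ⟨mprodι s.hom g.hom X.mod T.mod ≫ pullback.fst s.hom g.hom, h3⟩, h2, Pair.Hom.ext ?_⟩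
  show (_ ≫ _) ≫ g.hom = (_ ≫ _) ≫ s.hom
  simp only [Category.assoc, pullback.condition]

instance : (Pair.admBlowup.{u}).HasRightCalculusOfFractions where
  exists_rightFraction _ _ φ := by
    obtain ⟨Y, t, r, ht, h⟩ := Pair.exists_square φ.f φ.s φ.hs
    exact ⟨⟨t, ht, r⟩, h⟩
  ext X _ _ f₁ f₂ s hs h :=
    ⟨X, 𝟙 X, MorphismProperty.id_mem _ X, by
      simp [Pair.hom_eq_of_comp_eq s hs h]⟩

end Groth.Agent.ModPairLib
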