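import Groth.Agent.ModPairLib.LocPullback
import Mathlib.AlgebraicGeometry.Morphisms.Finite
import Mathlib.AlgebraicGeometry.Limits

/-!
# Closures of a decomposition of the interior
-/

set_option autoImplicit false
set_option backward.isDefEq.respectTransparency.types false

universe u

open CategoryTheory Limits AlgebraicGeometry TopologicalSpace ModPair

namespace Groth.Agent.ModPairLib

variable {X Y : Scheme.{u}}

theorem isIso_restrict_of_section (p : Y ⟶ X) (U : X.Opens) (s : (U : Scheme.{u}) ⟶ Y)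
    [IsOpenImmersion s] (hs : s ≫ p = U.ι) (hr : Set.range s = (p ⁻¹ᵁ U : Set Y)) :
    IsIso (p ∣_ U) := by
  let e := IsOpenImmersion.isoOfRangeEq s (p ⁻¹ᵁ U).ι (by rw [hr, Scheme.Opens.range_ι])
  have : e.hom ≫ (p ∣_ U) = 𝟙 _ := by
    rw [← cancel_mono U.ι, Category.assoc, morphismRestrict_ι]
    simp [e, hs]
  exact (IsIso.of_isIso_fac_left this)

theorem closedImmersion_homOfLE_of_compl {U U₀ U₁ : X.Opens} (hU : U₀ ⊔ U₁ = U)
    (hd : Disjoint U₀ U₁) :
    IsClosedImmersion (X.homOfLE (le_of_le_of_eq le_sup_left hU : U₀ ≤ U)) := by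
  refine IsClosedImmersion.of_isPreimmersion _ ?_
  have h : Set.range (X.homOfLE (le_of_le_of_eq le_sup_left hU : U₀ ≤ U)) = U.ι ⁻¹' (U₁ : Set X)ᶜ := by
    have h' : Set.range (X.homOfLE (le_of_le_of_eq le_sup_left hU : U₀ ≤ U)) = U.ι ⁻¹' (U₀ : Set X) := by
      exact congrArg SetLike.coe (X.opensRange_homOfLE (le_of_le_of_eq le_sup_left hU : U₀ ≤ U))
    rw [h']
    ext ⟨x, hx⟩
    constructor
    · intro h0 h1
      have : x ∈ U₀ ⊓ U₁ := ⟨h0, h1⟩
      rwa [hd.eq_bot] at this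
    · intro h1
      exact ((hU.ge hx : x ∈ U₀ ⊔ U₁)).resolve_right h1
  rw [h]
  exact U₁.2.isClosed_compl.preimage U.ι.continuous

theorem piece {I : X.IdealSheafData} (hI : BlowUp.IsEffCartierIdeal I) {U₀ U₁ : X.Opens}
    (hU : U₀ ⊔ U₁ = ModPair.interior I) (hd : Disjoint U₀ U₁) :
    BlowUp.IsEffCartierIdeal (I.comap U₀.ι.imageι) ∧ IsOpenImmersion U₀.ι.toImage ∧
      Set.range U₀.ι.toImage = U₀.ι.imageι ⁻¹' (ModPair.interior I : Set X) := by
  have := isAffineHom_interior hI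
  have hc := closedImmersion_homOfLE_of_compl hU hd
  have e : X.homOfLE (le_of_le_of_eq le_sup_left hU : U₀ ≤ ModPair.interior I) ≫
      (ModPair.interior I).ι = U₀.ι := X.homOfLE_ι _
  rw [← e]
  exact ⟨isEffCartier_comap_of_dense hI _ (isDenseOpen_imageι_preimage _ _),
    isOpenImmersion_toImage _ _, range_toImage _ _⟩

theorem isAdmBlowup_decomp {I : X.IdealSheafData} (hI : BlowUp.IsEffCartierIdeal I) {U₀ U₁ : X.Opens}
    (hU : U₀ ⊔ U₁ = ModPair.interior I) (hd : Disjoint U₀ U₁) :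
    BlowUp.IsEffCartierIdeal (I.comap (coprod.desc U₀.ι.imageι U₁.ι.imageι)) ∧
      ModPair.IsAdmBlowup (I.comap (coprod.desc U₀.ι.imageι U₁.ι.imageι)) I
        (coprod.desc U₀.ι.imageι U₁.ι.imageι) := by
  obtain ⟨h0, ho0, hr0⟩ := piece hI hU hd
  obtain ⟨h1, ho1, hr1⟩ := piece hI (sup_comm U₀ U₁ ▸ hU) hd.symm
  let p := coprod.desc U₀.ι.imageι U₁.ι.imageι
  refine ⟨Groth.Agent.FlatMor12.BlowUpDisjoint.isEffCartierIdeal_of_cover _ fun x => ?_, rfl,
    inferInstance, ?_⟩
  · obtain ⟨i, y, hy⟩ := (coprodOpenCover.{u, u} U₀.ι.image U₁.ι.image).exists_eq x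
    rcases i with ⟨⟩ | ⟨⟩
    · refine ⟨_, coprod.inl, inferInstance, ⟨y, hy⟩, ?_⟩
      rwa [← Scheme.IdealSheafData.comap_comp, coprod.inl_desc]
    · refine ⟨_, coprod.inr, inferInstance, ⟨y, hy⟩, ?_⟩
      rwa [← Scheme.IdealSheafData.comap_comp, coprod.inr_desc]
  · have hr0' : ∀ (U : X.Opens) (z : (U : Scheme.{u})), U.ι.imageι (U.ι.toImage z) = z.1 := fun U z => by
      rw [← Scheme.Hom.comp_apply, Scheme.Hom.toImage_imageι]
      rfl
    have i0 : IsIso (p ∣_ U₀) := by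
      refine isIso_restrict_of_section p U₀ (U₀.ι.toImage ≫ coprod.inl) (by
        rw [Category.assoc, coprod.inl_desc, Scheme.Hom.toImage_imageι]) ?_
      ext x
      obtain ⟨i, y, rfl⟩ := (coprodOpenCover.{u, u} U₀.ι.image U₁.ι.image).exists_eq x
      constructor
      · rintro ⟨z, hz⟩
        show p _ ∈ U₀
        rw [← hz, ← Scheme.Hom.comp_apply, Category.assoc, coprod.inl_desc, Scheme.Hom.toImage_imageι]
        exact z.2
      · intro hy
        rcases i with ⟨⟩ | ⟨⟩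
        · have hy' : U₀.ι.imageι y ∈ U₀ := by
            have : p ((coprod.inl : U₀.ι.image ⟶ _) y) ∈ U₀ := hy
            rwa [← Scheme.Hom.comp_apply, coprod.inl_desc] at this
          obtain ⟨z, rfl⟩ : y ∈ Set.range U₀.ι.toImage := hr0 ▸ hU.le (le_sup_left (b := U₁) hy')
          exact ⟨z, rfl⟩
        · have hy' : U₁.ι.imageι y ∈ U₀ := by
            have : p ((coprod.inr : U₁.ι.image ⟶ _) y) ∈ U₀ := hy
            rwa [← Scheme.Hom.comp_apply, coprod.inr_desc] at this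
          obtain ⟨z, rfl⟩ : y ∈ Set.range U₁.ι.toImage := hr1 ▸ hU.le (le_sup_left (b := U₁) hy')
          rw [hr0'] at hy'
          exact absurd (show z.1 ∈ U₀ ⊓ U₁ from ⟨hy', z.2⟩) (by rw [hd.eq_bot]; exact fun h => h)
    have i1 : IsIso (p ∣_ U₁) := by
      refine isIso_restrict_of_section p U₁ (U₁.ι.toImage ≫ coprod.inr) (by
        rw [Category.assoc, coprod.inr_desc, Scheme.Hom.toImage_imageι]) ?_
      ext x
      obtain ⟨i, y, rfl⟩ := (coprodOpenCover.{u, u} U₀.ι.image U₁.ι.image).exists_eq x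
      constructor
      · rintro ⟨z, hz⟩
        show p _ ∈ U₁
        rw [← hz, ← Scheme.Hom.comp_apply, Category.assoc, coprod.inr_desc, Scheme.Hom.toImage_imageι]
        exact z.2
      · intro hy
        rcases i with ⟨⟩ | ⟨⟩
        · have hy' : U₀.ι.imageι y ∈ U₁ := by
            have : p ((coprod.inl : U₀.ι.image ⟶ _) y) ∈ U₁ := hy
            rwa [← Scheme.Hom.comp_apply, coprod.inl_desc] at this
          obtain ⟨z, rfl⟩ : y ∈ Set.range U₀.ι.toImage := hr0 ▸ hU.le (le_sup_right (a := U₀) hy')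
          rw [hr0'] at hy'
          exact absurd (show z.1 ∈ U₀ ⊓ U₁ from ⟨z.2, hy'⟩) (by rw [hd.eq_bot]; exact fun h => h)
        · have hy' : U₁.ι.imageι y ∈ U₁ := by
            have : p ((coprod.inr : U₁.ι.image ⟶ _) y) ∈ U₁ := hy
            rwa [← Scheme.Hom.comp_apply, coprod.inr_desc] at this
          obtain ⟨z, rfl⟩ : y ∈ Set.range U₁.ι.toImage := hr1 ▸ hU.le (le_sup_right (a := U₀) hy')
          exact ⟨z, rfl⟩
    have hcov : ∀ (V : X.Opens), IsIso (p ∣_ V) →
        IsIso (p ∣_ ModPair.interior I ∣_ ((ModPair.interior I).ι ⁻¹ᵁ (V ⊓ ModPair.interior I))) := by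
      intro V hV
      refine (MorphismProperty.isomorphisms Scheme.{u}).arrow_mk_iso_iff
        (morphismRestrictRestrict p (ModPair.interior I) _) |>.2 ?_
      show IsIso _
      rw [Scheme.Hom.image_preimage_eq_opensRange_inf, Scheme.Opens.opensRange_ι]
      exact isIso_restrict_mono (inf_le_right.trans inf_le_left)
    exact (IsZariskiLocalAtTarget.iff_of_iSup_eq_top (P := MorphismProperty.isomorphisms Scheme.{u})
      (fun b : Bool => (ModPair.interior I).ι ⁻¹ᵁ ((if b then U₀ else U₁) ⊓ ModPair.interior I)) (by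
        refine top_le_iff.1 fun x _ => ?_
        rcases (hU.ge x.2 : x.1 ∈ U₀ ⊔ U₁) with h | h
        · exact Opens.mem_iSup.2 ⟨true, h, x.2⟩
        · exact Opens.mem_iSup.2 ⟨false, h, x.2⟩)).2 fun b => by
      cases b
      · exact hcov U₁ i1
      · exact hcov U₀ i0

end Groth.Agent.ModPairLib
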